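import Cfsg.Agent.Lib.SylT.PC
import Cfsg.Agent.Lib.PGroup.Basic
import Cfsg.Agent.Lib.W2.Tab

/-! The model of `D₈ ≀ 2` and its automorphisms. -/

set_option autoImplicit false
set_option maxRecDepth 20000

namespace CfsgLib.GHM.W8

open Subgroup CfsgLib.W2 CfsgLib.SylT

noncomputable section

/-- evaluate the argument first -/
def frc {β : Type} (x : ℕ) (k : ℕ → β) : β :=
  Nat.rec (motive := fun _ => β) (k 0) (fun m _ => k (Nat.succ m)) x

/-- the multiplication -/
def mq (x y : ℕ) : ℕ := frc x fun x => frc (tab1 7 127 0xffdf7e7bf5e7c7fddb766bd5a746fbd76e5bb566c5f9d3664b952644f7cf5e3b74e5c3f5cb562b54a542f3c74e1b3464c1f1c3460b1424407edd7a73e5c7877cd97263c587067ad56a53a5468578d1624385060476cd5a3364c58374c9522344850272c54a1324448170c14203040400fffbefcf7ebcf8efdbaf4e7cb8f0dfbb6ecd7ab4e8cf9b2e4c78b0e0bf7aedcb76acd8af5aad4a74a8d09f3a6cc972a4c88f1a2c4870a0c07ef9ebc76e9cb86ed9ab466c98b05eb96ac56a94a84e992a446890a03e78e9c3668c982e58a9426488901e3868c16284880e182840608080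
  (Nat.add (Nat.mul 2 (Nat.land x 64)) y)) fun y =>
    Nat.xor (Nat.xor x y) (Nat.shiftLeft (Nat.land (Nat.land (Nat.shiftRight x 1) y) 9) 2)

theorem ok : TOk 128 mq (tab1 7 127 0xb7cf5e3f74e5c3bddb766fd5a746bbd76e5fb566c5b9d3664f952644bfdf7e7ff5e7c7b5cb562f54a542b3c74e1f3464c1b1c3460f1424403678e9c3e68c9866d9ab46ec98b056b96ac5ea94a846992a44e890a076f9ebc7ee9cb82658a942e48890163868c1e2848806182840e08080) :=
  (SOk.of_light (gs := [1, 2, 64]) (D := 13) (by decide +kernel)).tok (by decide +kernel)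

/-- the model -/
abbrev M : Type := TG ok

def a1 : M := TG.o 1
def b1 : M := TG.o 2
def s0 : M := TG.o 64
def z0 : M := TG.o 36

/-- the elements with some zero coordinates -/
def sb (k : ℕ) (h : Nat.land (1 : M).v k = 0 ∧ ∀ a : M, Nat.land a.v k = 0 → ∀ b : M,
    Nat.land b.v k = 0 → Nat.land (a * b⁻¹).v k = 0) : Subgroup M :=
  TG.sub (fun a : M => Nat.land a.v k = 0) h

def A0 : Subgroup M := sb 82 (by decide +kernel)
def B0 : Subgroup M := sb 73 (by decide +kernel)
def Z0 : Subgroup M := sb 91 (by decide +kernel)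
def J0 : Subgroup M := sb 64 (by decide +kernel)

instance (a : M) : Decidable (a ∈ A0) := inferInstanceAs (Decidable (Nat.land a.v 82 = 0))
instance (a : M) : Decidable (a ∈ B0) := inferInstanceAs (Decidable (Nat.land a.v 73 = 0))
instance (a : M) : Decidable (a ∈ Z0) := inferInstanceAs (Decidable (Nat.land a.v 91 = 0))
instance (a : M) : Decidable (a ∈ J0) := inferInstanceAs (Decidable (Nat.land a.v 64 = 0))

theorem cards : Nat.card A0 = 16 ∧ Nat.card B0 = 16 ∧ Nat.card Z0 = 4 ∧ Nat.card J0 = 64 := by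
  refine ⟨?_, ?_, ?_, ?_⟩ <;> (rw [TG.card_subgroup _ _ fun _ => Iff.rfl]; decide +kernel)

/-- the defining relations -/
def Tr {G : Type*} [Group G] (a b s : G) : Prop := a * a = 1 ∧ s * s = 1 ∧
  a * (s * a * s) = s * a * s * a ∧ b * b = 1 ∧ a * (s * b * s) = s * b * s * a ∧
  b * (s * b * s) = s * b * s * b ∧ a * b * (a * b) * (a * b * (a * b)) = 1

def pw (g : M) (i : ℕ) (x : M) : M := cond (bit g.v i) x 1

/-- the image of `g` under the endomorphism with `a1 ↦ p`, `b1 ↦ q`, `s0 ↦ r` -/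
def al (p q r g : M) : M := pw g 0 p * pw g 1 q * pw g 2 (p * q * (p * q)) * pw g 3 (r * p * r) *
  pw g 4 (r * q * r) * pw g 5 (r * (p * q * (p * q)) * r) * pw g 6 r

theorem al_eq (α : M →* M) (g : M) : al (α a1) (α b1) (α s0) g = α g := by
  have k : ∀ i x, pw g i (α x) = α (pw g i x) := fun i x => by
    unfold pw; cases bit g.v i <;> simp
  conv_rhs => rw [← (by decide +kernel : ∀ g, al a1 b1 s0 g = g) g]
  simp only [al, ← map_mul, k]

/-- equality modulo the centre -/
def Ez (a b : M) : Prop := a = b ∨ a = b * z0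

instance (a b : M) : Decidable (Ez a b) := by unfold Ez; infer_instance

/-- the case of an automorphism interchanging `A0` and `B0` -/
def Sw (c t e k : M) : Prop := e * TG.o 16 ∈ Z0 ∧ Ez c 1 ∧ Ez (s0 * t * c * (s0 * t * c)) 1 ∧
  Ez (s0 * (a1 * e)) (a1 * e * t) ∧ Ez k (a1 * e)

instance (c t e k : M) : Decidable (Sw c t e k) := by unfold Sw; infer_instance

/-- the solutions of `x * x = 1` -/
def Iv (x : M) : Prop := bit 0x8402010800402010077777700777777 x.v = true

instance (x : M) : Decidable (Iv x) := by unfold Iv; infer_instance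

theorem iv_of : ∀ x : M, x * x = 1 → Iv x := by decide +kernel

/-- the two types of automorphisms -/
def L4 (p q r c : M) : Prop := al p q r q * c = c * b1 → al p q r r * c = c * s0 → al p q r c = c →
  (p ∉ A0 ∧ q ∉ B0 ∧ ∃ m : M, Nat.land m.v 52 = 0 ∧ Sw (m * al p q r m * c) (m * r * m⁻¹)
    (m * p * m⁻¹) (m * al p q r (a1 * (m * p * m⁻¹)) * m⁻¹)) ∨ ∃ m : M, Nat.land m.v 63 = 0 ∧
    m * al p q r m * c ∈ Z0 ∧ ∀ g ∈ [a1, b1, TG.o 8, TG.o 16], m * al p q r g * m⁻¹ * g⁻¹ ∈ Z0

instance (p q r c : M) : Decidable (L4 p q r c) := by unfold L4; infer_instance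

def L3 (p q r : M) : Prop := q * (r * q * r) = r * q * r * q → al p q r z0 ≠ 1 →
  ∀ c : M, al p q r p * c = c * a1 → L4 p q r c

instance (p q r : M) : Decidable (L3 p q r) := by unfold L3; infer_instance

def L2 (p q r : M) : Prop := p * q ≠ q * p → p * (r * q * r) = r * q * r * p → L3 p q r

instance (p q r : M) : Decidable (L2 p q r) := by unfold L2; infer_instance

theorem aut_cases : ∀ p : M, Iv p → ∀ r : M, Iv r → r * p ≠ p * r →
    p * (r * p * r) = r * p * r * p → ∀ q : M, Iv q → L2 p q r := by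
  decide +kernel

theorem d8 {G : Type*} [Group G] {a b : G} (aa : a * a = 1) (bb : b * b = 1)
    (h : a * b * (a * b) * (a * b * (a * b)) = 1) : a * b = b * (a * b * (a * b) * a) ∧
      Commute a (a * b * (a * b)) ∧ Commute b (a * b * (a * b)) := by
  have aa' : ∀ x, a * (a * x) = x := fun x => by rw [← mul_assoc, aa, one_mul]
  have bb' : ∀ x, b * (b * x) = x := fun x => by rw [← mul_assoc, bb, one_mul]
  have e : b * a * (b * a) = a * b * (a * b) :=
    mul_right_cancel (b := a * b * (a * b)) (by rw [h]; simp only [mul_assoc, aa', bb', bb])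
  refine ⟨?_, ?_, ?_⟩
  · rw [← e]; simp only [mul_assoc, aa, bb', mul_one]
  · exact (congrArg (a * ·) e.symm).trans (by simp only [mul_assoc])
  · exact .trans (by simp only [mul_assoc]) (congrArg (· * b) e)

def cjW (i j : ℕ) : List ℕ :=
  ([[[], [3], [4], [1], [2], [6], [5]], [[], [], [2, 5]], [], [[], [], [], [], [4, 6]]].getD i []).getD
    j [j]

theorem exists_hom {G : Type*} [Group G] {a b s : G} (h : Tr a b s) :
    ∃ φ : M →* G, φ a1 = a ∧ φ b1 = b ∧ φ s0 = s := by
  obtain ⟨aa, ss, c1, bb, c2, c3, h4⟩ := h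
  have ss' : ∀ x, s * (s * x) = x := fun x => by rw [← mul_assoc, ss, one_mul]
  have k : ∀ x y, s * x * s * (s * y * s) = s * (x * y) * s := fun x y => by
    simp only [mul_assoc, ss']
  have k1 : ∀ x, s * x = s * x * s * s := fun x => by rw [mul_assoc _ s, ss, mul_one]
  have k2 : ∀ x, s * (s * x * s) = x * s := fun x => by rw [mul_assoc s, ss']
  have c4 : b * (s * a * s) = s * a * s * b := by
    simpa only [mul_assoc, ss', ss, mul_one] using congrArg (fun x => s * x * s) c2.symm
  have aa2 : s * a * s * (s * a * s) = 1 := by rw [k, aa, mul_one, ss]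
  have bb2 : s * b * s * (s * b * s) = 1 := by rw [k, bb, mul_one, ss]
  have zz2 : s * (a * b * (a * b)) * s * (s * (a * b * (a * b)) * s) = 1 := by rw [k, h4, mul_one, ss]
  obtain ⟨e1, e2, e3⟩ := d8 aa bb h4
  obtain ⟨e4, e5, e6⟩ := d8 aa2 bb2 (by simpa only [k] using zz2)
  have l : ∀ {x}, Commute x (s * a * s) → Commute x (s * b * s) →
      Commute x (s * a * s * (s * b * s) * (s * a * s * (s * b * s))) := fun h1 h2 =>
    (h1.mul_right h2).mul_right (h1.mul_right h2)
  have l' : ∀ {x}, Commute a x → Commute b x → Commute (a * b * (a * b)) x := fun h1 h2 =>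
    (h1.mul_left h2).mul_left (h1.mul_left h2)
  have e7 := l c1 c2
  have e8 := l c4 c3
  have e9 := (l' c1 c4).symm
  have e10 := (l' c2 c3).symm
  rw [k a b, k (a * b)] at e4 e5 e6 e7 e8
  have e11 := l' e7 e8
  have hx : PcRel (fun i => [s, a, b, s * a * s, s * b * s, a * b * (a * b),
      s * (a * b * (a * b)) * s].getD i 1) 7 (fun _ => []) cjW := fun i hi => by
    refine ⟨?_, fun j hj hij => ?_⟩
    · interval_cases i
      exacts [ss, aa, bb, aa2, bb2, h4, zz2]
    · interval_cases j <;> interval_cases i <;>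
        simp only [ew, cjW, List.getD_cons_succ, List.getD_cons_zero, List.getD_nil, List.map_cons,
          List.map_nil, List.prod_cons, List.prod_nil, mul_one]
      exacts [k1 _, k1 _, e1.trans (mul_assoc _ _ _).symm, k2 _, c1, c4, k2 _, c2, c3,
        (k a b).trans (e4.trans (mul_assoc _ _ _).symm), k1 _, e2, e3, e9, e10, k2 _, e7, e8, e5, e6, e11]
  obtain ⟨φ, h⟩ := exists_hom_pc (g := fun i => [s0, a1, b1, TG.o 8, TG.o 16, TG.o 4, TG.o 32].getD i 1)
    (by decide) hx (by decide +kernel) TG.card_eq.ge fun H hH =>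
      TG.eq_top_of_genB (gs := [s0, a1, b1]) (D := 13) (by decide +kernel) (by
        simp only [List.forall_mem_cons]
        exact ⟨hH 0 (by norm_num), hH 1 (by norm_num), hH 2 (by norm_num), by simp⟩)
  exact ⟨φ, h 1 (by norm_num), h 2 (by norm_num), h 0 (by norm_num)⟩

theorem cent_cases : ∀ c : M, c * a1 = a1 * c → c * b1 = b1 * c → c * s0 = s0 * c → c = 1 ∨ c = z0 := by
  decide +kernel

theorem nonempty_equiv (T : Sylow 2 (Equiv.Perm (Fin 8))) : 
    Nonempty (M ≃* (T : Subgroup (Equiv.Perm (Fin 8)))) := by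
  obtain ⟨φ, h1, h2, h3⟩ := exists_hom (G := Equiv.Perm (Fin 8)) (a := Equiv.swap 0 1)
    (b := Equiv.swap 0 2 * Equiv.swap 1 3)
    (s := Equiv.swap 0 4 * Equiv.swap 1 5 * Equiv.swap 2 6 * Equiv.swap 3 7) (by unfold Tr; decide)
  have hM : IsPGroup 2 M := IsPGroup.of_card (n := 7) TG.card_eq
  have hφ : Function.Injective φ := by
    rw [← MonoidHom.ker_eq_bot_iff]
    by_contra hn
    have := hM.isNilpotent
    obtain ⟨c, h4, h5, h6⟩ := PGroup.exists_mem_center_of_normal φ.ker hn
    have h7 := fun s => (mem_center_iff.1 h5 s).symm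
    obtain rfl := (cent_cases c (h7 _) (h7 _) (h7 _)).resolve_left h6
    rw [MonoidHom.mem_ker, show z0 = a1 * b1 * (a1 * b1) * (s0 * (a1 * b1 * (a1 * b1)) * s0) by
      decide +kernel] at h4
    simp only [map_mul, h1, h2, h3] at h4
    exact absurd h4 (by decide)
  obtain ⟨T', hT⟩ := (hM.of_equiv (MonoidHom.ofInjective hφ)).exists_le_sylow
  have e : φ.range = T' := eq_of_le_of_card_ge hT (by
    rw [← Nat.card_congr (MonoidHom.ofInjective hφ).toEquiv, TG.card_eq, T'.card_eq_multiplicity,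
      Nat.card_perm, Nat.card_fin, Nat.factorization_def _ Nat.prime_two]
    decide +kernel)
  exact ⟨((MonoidHom.ofInjective hφ).trans (MulEquiv.subgroupCongr e)).trans (T'.equiv T)⟩

end

end CfsgLib.GHM.W8
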