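import Mathlib
import Cfsg.Agent.Lib.GHM.W8
import Cfsg.Agent.Lib.GHM.Defs2

/-!
The model of a Sylow 2-subgroup of `M₂₂` (see `plans/GHM.md`, part 2).
Bits: `t = 1`, `d = 2`, `a0 = 4`, `a1 = 8`, `q0 = 16`, `q1 = 32`, `s = 64`.
-/

set_option autoImplicit false
set_option maxRecDepth 20000

namespace CfsgLib.GHM

open Subgroup CfsgLib.W2

noncomputable section

namespace T7

/-- the multiplication -/
def mq (x y : ℕ) : ℕ := W8.frc x fun x => W8.frc y fun y =>
  W8.frc (Nat.xor y (Nat.land (Nat.shiftRight y 1) (Nat.mul 21 (Nat.shiftRight x 6)))) fun y =>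
    Nat.xor (Nat.xor x y) (tab1 2 3 0x9c78e400
      (Nat.add (Nat.land (Nat.shiftRight x 2) 12) (Nat.land (Nat.shiftRight y 2) 3)))

theorem ok : TOk 128 mq (tab1 7 127 0xd3a356bdfbb66dc9973e6c58f0e0f7ebc79f9f7ffeebd3b77e5cf8f0b166ddabb72f5faf5aa55a54e8d0952e4c89d3e6cc8d1e2c4850e0c07af1fbe74edc3968d5b3766c98b05cbd62d50a552b4a913a646890a03874f1f3260d9a2c5ca1526488901e3868c16284880e182840608080) :=
  (SOk.of_light (gs := [8, 32, 64]) (D := 13) (by decide +kernel)).tok (by decide +kernel)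

/-- the model -/
abbrev M : Type := TG ok

def t : M := TG.o 1
def d : M := TG.o 2
def a0 : M := TG.o 4
def a1 : M := TG.o 8
def q0 : M := TG.o 16
def q1 : M := TG.o 32
def s : M := TG.o 64

/-- the elements with some zero coordinates -/
def sb (k : ℕ) (h : Nat.land (1 : M).v k = 0 ∧ ∀ a : M, Nat.land a.v k = 0 → ∀ b : M,
    Nat.land b.v k = 0 → Nat.land (a * b⁻¹).v k = 0) : Subgroup M :=
  TG.sub (fun a : M => Nat.land a.v k = 0) h

def A : Subgroup M := sb 112 (by decide +kernel)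
def Q : Subgroup M := sb 76 (by decide +kernel)
def D : Subgroup M := sb 124 (by decide +kernel)
def B : Subgroup M := sb 64 (by decide +kernel)
def F : Subgroup M := sb 104 (by decide +kernel)
def H : Subgroup M := sb 40 (by decide +kernel)

instance (a : M) : Decidable (a ∈ A) := inferInstanceAs (Decidable (Nat.land a.v 112 = 0))
instance (a : M) : Decidable (a ∈ Q) := inferInstanceAs (Decidable (Nat.land a.v 76 = 0))
instance (a : M) : Decidable (a ∈ D) := inferInstanceAs (Decidable (Nat.land a.v 124 = 0))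
instance (a : M) : Decidable (a ∈ B) := inferInstanceAs (Decidable (Nat.land a.v 64 = 0))
instance (a : M) : Decidable (a ∈ F) := inferInstanceAs (Decidable (Nat.land a.v 104 = 0))
instance (a : M) : Decidable (a ∈ H) := inferInstanceAs (Decidable (Nat.land a.v 40 = 0))

theorem cards : Nat.card A = 16 ∧ Nat.card Q = 16 ∧ Nat.card D = 4 ∧ Nat.card B = 64 ∧
    Nat.card F = 16 ∧ Nat.card H = 32 := by
  refine ⟨?_, ?_, ?_, ?_, ?_, ?_⟩ <;> (rw [TG.card_subgroup _ _ fun _ => Iff.rfl]; decide +kernel)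

/-- the map with `i ↦ x`, `j ↦ y` -/
def qm (x y : M) : Q8 → M
  | .a n => x ^ n.val
  | .xa n => y * x ^ n.val

/-- `H ≅ Q₈ ∘ Q₈` -/
def ψ : Q8 × Q8 →* M :=
  MonoidHom.mk' (fun p => qm (TG.o 20) (TG.o 70) p.1 * qm (TG.o 22) (TG.o 66) p.2)
    (by decide +kernel)

theorem xh : XH ψ := by unfold XH; decide +kernel

theorem ψ_z : ψ (qe, 1) = t := by decide +kernel

theorem ψ_range : ψ.range = H :=
  Subgroup.ext (by decide +kernel : ∀ x, (∃ p, ψ p = x) ↔ x ∈ H)

/-- the defining relations -/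
structure Rel {G : Type*} [Group G] (t d a0 a1 q0 q1 s : G) : Prop where
  sq : ∀ x ∈ [t, d, a0, a1, q0, q1, s], x * x = 1
  ct : ∀ x ∈ [d, a0, a1, q0, q1, s], Commute t x
  cd : ∀ x ∈ [a0, a1, q0, q1], Commute d x
  aa : Commute a0 a1
  qq : Commute q0 q1
  c00 : q0 * a0 = a0 * q0 * t
  c01 : q1 * a0 = a0 * q1 * d
  c10 : q0 * a1 = a1 * q0 * d
  c11 : q1 * a1 = a1 * q1 * (t * d)
  sd : s * d = t * d * s
  sa0 : s * a0 = a0 * s
  sa1 : s * a1 = a0 * a1 * s
  sq0 : s * q0 = q0 * s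
  sq1 : s * q1 = q0 * q1 * s

theorem rel : Rel t d a0 a1 q0 q1 s := by
  constructor <;> (try unfold Commute SemiconjBy) <;> decide +kernel

end T7

/-- coordinates for `TM S Q A t` -/
structure Co7 {G : Type*} [Group G] (S Q A : Subgroup G) (t : G) (φ : T7.M →* G) : Prop where
  inj : Function.Injective φ
  range : φ.range = S
  mapQ : T7.Q.map φ = Q
  mapA : T7.A.map φ = A
  ht : φ T7.t = t

end

end CfsgLib.GHM
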